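import Groth.Agent.H34.CohFlat0.GenExact
import Groth.Agent.Lib.Exchange.Fibre
import Groth.Agent.Lib.ExchangeFP29.Main
import Groth.Agent.H2.Rigid.H0
import Groth.Agent.H54.BCX.Main

/-!
# `f_* O` and `R^1 f_* O` when the fibres have only constant functions
-/

set_option autoImplicit false
set_option linter.style.haveILetI false
universe u

open CategoryTheory Limits AlgebraicGeometry Opposite TopologicalSpace

namespace Groth.Agent.H34.CohFlat0

open Groth.Agent.Lib _root_.ZarCoh.Exchange

noncomputable section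

/-- Base change of the exchange complex, over a local ring at a prime. -/
theorem flat_Q_of_constants {A : Type u} [CommRing A] {X : Scheme.{u}}
    [X.Over (Spec (CommRingCat.of A))] [IsProper (X ↘ Spec (CommRingCat.of A))]
    [Flat (X ↘ Spec (CommRingCat.of A))] [LocallyOfFinitePresentation (X ↘ Spec (CommRingCat.of A))]
    (hc : H2.Rigid.H0 (X ↘ Spec (CommRingCat.of A)))
    {P : ChainComplex (ModuleCat.{u} A) ℤ} (hP : ExchangeFP29.Algebra.IsGood P)
    (e : CohIII.TFun P (-((0 : ℕ) : ℤ)) ⋙ forget₂ (ModuleCat.{u} A) AddCommGrpCat.{u} ≅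
      CohIII.tensorAFunctor A (Coh.structureModule X) ⋙ CohIII.HAb X 0) :
    Module.Flat A (FlatCx.Basic.Q P (-1)) := by
  let pX := X ↘ Spec (CommRingCat.of A)
  let N := FlatCx.Basic.Q P (-1)
  haveI : ∀ (m : Ideal A) [m.IsMaximal], IsLocalizedModule.AtPrime m
      (TensorProduct.mk A (Localization.AtPrime m) N 1) := fun m _ =>
    (isLocalizedModule_iff_isBaseChange m.primeCompl (Localization.AtPrime m) _).2
      (TensorProduct.isBaseChange A N (Localization.AtPrime m))
  refine Module.flat_of_isLocalized_maximal A N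
    (fun m _ => TensorProduct A (Localization.AtPrime m) N)
    (fun m _ => TensorProduct.mk A (Localization.AtPrime m) N 1) fun m hm => ?_
  let B := Localization.AtPrime m
  let x : PrimeSpectrum A := ⟨m, hm.isPrime⟩
  let b : Spec (CommRingCat.of B) ⟶ Spec (CommRingCat.of A) :=
    Spec.map (CommRingCat.ofHom (algebraMap A B))
  let X' := pullback pX b
  letI : X'.Over (Spec (CommRingCat.of B)) := ⟨pullback.snd pX b⟩
  haveI : IsProper (X' ↘ Spec (CommRingCat.of B)) := show IsProper (pullback.snd pX b) from inferInstance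
  haveI : Flat (X' ↘ Spec (CommRingCat.of B)) := show Flat (pullback.snd pX b) from inferInstance
  haveI : LocallyOfFinitePresentation (X' ↘ Spec (CommRingCat.of B)) :=
    show LocallyOfFinitePresentation (pullback.snd pX b) from inferInstance
  have hsq : IsPullback (pullback.fst pX b) (X' ↘ Spec (CommRingCat.of B)) pX b :=
    IsPullback.of_hasPullback pX b
  -- the closed fibre
  let k := IsLocalRing.ResidueField B
  let X₀ := pX.fiber x
  let p₀ : X₀ ⟶ Spec (CommRingCat.of k) :=
    pX.fiberToSpecResidueField x ≫ Spec.map (Scheme.Spec.residueFieldIso (CommRingCat.of A) x).inv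
  letI : X₀.Over (Spec (CommRingCat.of k)) := ⟨p₀⟩
  have hb : Spec.map (CommRingCat.ofHom (algebraMap A x.asIdeal.ResidueField)) =
      Spec.map (CommRingCat.ofHom (algebraMap B k)) ≫ b := by
    rw [← Spec.map_comp]
    rfl
  have hfib := Fibre.isPullback_fiber pX x
  rw [hb] at hfib
  let g : X₀ ⟶ X' := pullback.lift (pX.fiberι x)
    (p₀ ≫ Spec.map (CommRingCat.ofHom (algebraMap B k))) (by rw [Category.assoc]; exact hfib.w)
  have hsq₀ : IsPullback g (X₀ ↘ Spec (CommRingCat.of k)) (X' ↘ Spec (CommRingCat.of B))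
      (Spec.map (CommRingCat.ofHom (algebraMap B (IsLocalRing.ResidueField B)))) := by
    refine IsPullback.of_right ?_ (pullback.lift_snd _ _ _) hsq
    rw [pullback.lift_fst]
    exact hfib
  have hs : Function.Surjective g.appTop.hom := by
    intro w
    have h1 : Function.Surjective p₀.appTop.hom := by
      rw [Scheme.Hom.comp_appTop]
      haveI : IsIso (Spec.map (Scheme.Spec.residueFieldIso (CommRingCat.of A) x).inv) :=
        inferInstanceAs (IsIso (Scheme.Spec.map (Scheme.Spec.residueFieldIso (CommRingCat.of A) x).inv.op))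
      let q := Spec.map (Scheme.Spec.residueFieldIso (CommRingCat.of A) x).inv
      haveI hq : IsIso q := this
      haveI : IsIso q.appTop := inferInstanceAs (IsIso (q.app ⊤))
      exact (hc x).comp (ConcreteCategory.bijective_of_isIso q.appTop).2
    have h2 : Function.Surjective (Spec.map (CommRingCat.ofHom (algebraMap B k))).appTop.hom := by
      have h := Scheme.ΓSpecIso_naturality (CommRingCat.ofHom (algebraMap B k))
      intro t
      obtain ⟨b', hb'⟩ := IsLocalRing.residue_surjective ((Scheme.ΓSpecIso (CommRingCat.of k)).hom.hom t)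
      refine ⟨(Scheme.ΓSpecIso (CommRingCat.of B)).inv.hom b', ?_⟩
      apply (ConcreteCategory.bijective_of_isIso (Scheme.ΓSpecIso (CommRingCat.of k)).hom).1
      have h' := ConcreteCategory.congr_hom h ((Scheme.ΓSpecIso (CommRingCat.of B)).inv.hom b')
      refine h'.trans ?_
      show (CommRingCat.ofHom (algebraMap B k)).hom
        ((Scheme.ΓSpecIso (CommRingCat.of B)).hom.hom ((Scheme.ΓSpecIso (CommRingCat.of B)).inv.hom b')) = _
      rw [Iso.inv_hom_id_apply]
      exact hb'
    obtain ⟨t, rfl⟩ := h1 w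
    obtain ⟨t', rfl⟩ := h2 t
    refine ⟨(X' ↘ Spec (CommRingCat.of B)).appTop.hom t', ?_⟩
    have h := congrArg (fun q => Scheme.Hom.appTop q t') hsq₀.w
    simp only [Scheme.Hom.comp_appTop] at h
    exact h
  -- the exchange complex over the localisation
  let P' := FlatCx.BaseChange.bc P B
  have hP' : ExchangeFP29.Algebra.IsGood P' := by
    refine ⟨fun j => ?_, ?_, fun j hj M => ?_⟩
    · haveI := hP.finite j
      haveI := (hP.fin j).2
      exact ⟨Module.Finite.equiv (FlatCx.BaseChange.Xequiv P B j).symm,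
        Module.Projective.of_equiv (FlatCx.BaseChange.Xequiv P B j).symm⟩
    · obtain ⟨b₀, hb₀⟩ := hP.bdd
      refine ⟨b₀, fun j hj => ?_⟩
      haveI := ModuleCat.subsingleton_of_isZero (hb₀ j hj)
      exact ModuleCat.isZero_iff_subsingleton.2
        (FlatCx.BaseChange.Xequiv P B j).injective.subsingleton
    · have hz := hP.pos j hj (ExtScalars.res.obj M)
      haveI := ModuleCat.subsingleton_of_isZero hz
      let ε := (ExtScalars.iso (ExtScalars.isBCCx_bcCx B P) j).app M
      exact ModuleCat.isZero_iff_subsingleton.2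
        (@Function.Injective.subsingleton _ _ _ ε.addCommGroupIsoToAddEquiv.symm.injective this)
  haveI : (Coh.structureModule X).IsQuasicoherent := TensorMod.QCohInv.isQCoh_structureModule X
  obtain ⟨bc⟩ := BaseChange.nonempty_baseChange_iso hsq (Coh.structureModule X) 0
  let e' : CohIII.TFun P' (-((0 : ℕ) : ℤ)) ⋙ forget₂ (ModuleCat.{u} B) AddCommGrpCat.{u} ≅
      CohIII.tensorAFunctor B (Coh.structureModule X') ⋙ CohIII.HAb X' 0 :=
    (ExtScalars.iso (ExtScalars.isBCCx_bcCx B P) (-((0 : ℕ) : ℤ))).symm ≪≫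
      Functor.isoWhiskerLeft (ExtScalars.res (A := A) (B := B)) e ≪≫ bc.symm ≪≫
      Functor.isoWhiskerRight (ExchangeFP29.Rep.tensorCongr B (PicLoc.pullbackStructureIso _)) _
  haveI : Module.Flat B (FlatCx.Basic.Q P' (-1)) :=
    flat_Q_of_surjective hsq₀ hs hP' e'
  haveI : Module.Flat B (TensorProduct A B N) :=
    Module.Flat.of_linearEquiv (FlatCx.BaseChange.QEquiv P B (-1)).symm
  exact Module.Flat.trans A B _

variable {X S : Scheme.{u}} (f : X ⟶ S)

/-- Constant functions on the fibres of the restriction over an affine open. -/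
theorem h0_toSpec [QuasiCompact f] [QuasiSeparated f] (hc : H2.Rigid.H0 f) (V : S.Opens) [IsAffine (V : Scheme.{u})] :
    H2.Rigid.H0 (Local.XV f V ↘ Spec (CommRingCat.of (Local.AV V))) :=
  fun x => H2.Rigid.H0.isPullback hc
    ((IsPullback.of_hasPullback _ ((Spec (CommRingCat.of (Local.AV V))).fromSpecResidueField x)).paste_horiz
      (LocalRep.isPullback_k f V))

/-- `R^1 f_* O` is locally free, of rank the fibre rank, when all fibres are curves with only constant
functions. -/
theorem exists_free_nhd_R1 [IsProper f] [Flat f] [LocallyOfFinitePresentation f]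
    [HasInjectiveResolutions X.Modules] (hdim : ∀ s : S, topologicalKrullDim ↥(f.fiber s) ≤ 1)
    (hc : H2.Rigid.H0 f) (y : S) :
    ∃ W : S.Opens, y ∈ W ∧ Nonempty (((Coh.Rpush f 1).obj (Coh.structureModule X)).restrict W.ι ≅
      FlatMod.freeMod (↑W) (CohIII.fiberRank f (Coh.structureModule X) 1 y)) := by
  let F := Coh.structureModule X
  haveI : F.IsQuasicoherent := TensorMod.QCohInv.isQCoh_structureModule X
  have hF : CohB1.IsFP F := TensorMod.FPConv.isFP_of_isFinLocFree (isFinLocFree_structure X)
  have hfl : FlatMod.IsFlatOver f F :=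
    NearFibre.isFlatOver_of_isFinLocFree f (isFinLocFree_structure X)
  obtain ⟨V, hV, hyV, -⟩ := exists_isAffineOpen_mem_and_subset (U := ⊤) (x := y) trivial
  haveI : IsAffine (V : Scheme.{u}) := hV
  obtain ⟨P, hP, he, hr, hz⟩ := ExchangeFP29.Main.exists_of_vanish f F hF hfl V
  obtain ⟨e₀⟩ := he 0
  obtain ⟨e₁⟩ := he 1
  haveI : Flat (Local.XV f V ↘ Spec (CommRingCat.of (Local.AV V))) :=
    MorphismProperty.of_isPullback (LocalRep.isPullback_k f V) ‹Flat f›
  haveI : LocallyOfFinitePresentation (Local.XV f V ↘ Spec (CommRingCat.of (Local.AV V))) :=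
    MorphismProperty.of_isPullback (LocalRep.isPullback_k f V) ‹LocallyOfFinitePresentation f›
  have hq : Module.Flat (Local.AV V) (FlatCx.Basic.Q P (-1)) :=
    flat_Q_of_constants (h0_toSpec f hc V) hP (e₀ ≪≫ Functor.isoWhiskerRight
      (ExchangeFP29.Rep.tensorCongr (Local.AV V)
        ((Scheme.Modules.restrictFunctorIsoPullback (f ⁻¹ᵁ V).ι).app F ≪≫ PicLoc.pullbackStructureIso _)) _)
  have h2 : ∀ s : S, CohIII.fiberRank f F 2 s = 0 := fun s =>
    (ExchangeFP29.Main.fiberRank_eq_zero_iff f F hF s 2).2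
      (H54.BCX.Main.subsingleton_fiberH s (d := 1) (by exact_mod_cast hdim s) one_lt_two)
  have hq2 : Module.Flat (Local.AV V) (FlatCx.Basic.Q P (-((1 : ℕ) : ℤ) - 1)) := by
    have h := (hz 2 fun z _ => h2 z).2.1
    rwa [show -((2 : ℕ) : ℤ) = -((1 : ℕ) : ℤ) - 1 by norm_num] at h
  exact ExchangeFP29.Main.exists_free_nhd f F 1 hP e₁ (by simpa using hq) hq2 hyV

end

end Groth.Agent.H34.CohFlat0
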