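import Groth.Agent.Lib.Exchange.SectionLift
import Groth.Agent.Lib.Exchange.AcycRes
import Groth.Agent.Lib.Exchange.NearFibre
import Groth.Agent.Lib.Cyc.PB.Sect
import Groth.Agent.Lib.Snapper.Twist
import Groth.Agent.S2447

/-!
# Cohomological flatness in degree zero from lifting functions
-/

set_option autoImplicit false
set_option linter.style.haveILetI false
universe u

open CategoryTheory Limits AlgebraicGeometry Opposite TopologicalSpace
open scoped TensorProduct

namespace Groth.Agent.H34.CohFlat0

open Groth.Agent.Lib ZarCoh.Exchange ZarCoh.Exchange.Complex ZarCoh.FlatBC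
open Groth.Agent.Lib.CechRes.Sec (rho secA toSec ofSec)
open Groth.Agent.Lib.Cech.Complex (inter)
open Groth.Agent.Lib.TensorMod

noncomputable section

/-- The structure sheaf is finite locally free. -/
theorem isFinLocFree_structure (X : Scheme.{u}) : FlatMod.IsFinLocFree (Coh.structureModule X) :=
  fun _ => ⟨⊤, 1, trivial, ⟨Scheme.Modules.restrictUnitIso _ ≪≫
    (coproductUniqueIso fun _ : Fin 1 => Coh.structureModule _).symm⟩⟩

/-- If functions on the base change lift, so do the sections of the inverse image of the structure sheaf. -/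
theorem exists_pbRes {X X' : Scheme.{u}} (g : X' ⟶ X) (hs : Function.Surjective g.appTop.hom)
    (t : Γ((Scheme.Modules.pullback g).obj (Coh.structureModule X), ⊤)) :
    ∃ m : Γ(Coh.structureModule X, ⊤),
      PullbackSections.pbRes g (Coh.structureModule X) (U := ⊤) (V := ⊤) le_top m = t := by
  have he := Cyc.PB.Sect.isGen_pbRes g (Ample.GenLocus.isGen_one (X := X) ⊤) (W := (⊤ : X'.Opens)) le_top
  obtain ⟨r, hr⟩ := Ample.GenLocus.exists_coord he t
  obtain ⟨s, rfl⟩ := hs r
  refine ⟨s • Gen.one X ⊤, ?_⟩
  rw [PullbackSections.pbRes_smul, hr]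
  congr 1
  exact ConcreteCategory.congr_hom (Scheme.Hom.app_eq_appLE g).symm s

variable {A : Type u} [CommRing A] [IsNoetherianRing A] [IsLocalRing A] {X X' : Scheme.{u}}
  [X.Over (Spec (CommRingCat.of A))] [IsProper (X ↘ Spec (CommRingCat.of A))]
  [Flat (X ↘ Spec (CommRingCat.of A))]
  [X'.Over (Spec (CommRingCat.of (IsLocalRing.ResidueField A)))] {g : X' ⟶ X}

variable (hsq : IsPullback g (X' ↘ Spec (CommRingCat.of (IsLocalRing.ResidueField A))) (X ↘ Spec (CommRingCat.of A))
    (Spec.map (CommRingCat.ofHom (algebraMap A (IsLocalRing.ResidueField A)))))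
  (hs : Function.Surjective g.appTop.hom)

local notation "pX" => (X ↘ Spec (CommRingCat.of A))

include hsq hs in
/-- `H^0` with coefficients is exact if functions on the closed fibre lift. -/
theorem exact_tensorAFunctor :
    (CohIII.tensorAFunctor A (Coh.structureModule X) ⋙ CohIII.HAb X 0).PreservesMonomorphisms ∧
      (CohIII.tensorAFunctor A (Coh.structureModule X) ⋙ CohIII.HAb X 0).PreservesEpimorphisms := by
  let F : X.Modules := Coh.structureModule X
  have hF : Coh.IsCoh F := by
    haveI : IsLocallyNoetherian X := LocallyOfFiniteType.isLocallyNoetherian pX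
    exact Snapper.Twist.isCoh_structureModule X
  haveI : F.IsQuasicoherent := hF.1
  have hfl : FlatMod.IsFlatOver pX F :=
    ZarCoh.Exchange.NearFibre.isFlatOver_of_isFinLocFree pX (isFinLocFree_structure X)
  haveI : X.IsSeparated := ⟨by rw [← terminal.comp_from pX]; infer_instance⟩
  haveI : CompactSpace X := (quasiCompact_iff_compactSpace pX).mp inferInstance
  obtain ⟨S, hS, hcov⟩ :=
    isCompact_and_isOpen_iff_finite_and_eq_biUnion_affineOpens.mp
      ⟨(isCompact_univ : IsCompact (Set.univ : Set X)), isOpen_univ⟩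
  haveI := hS.to_subtype
  let U : S → X.Opens := fun i => i.1.1
  have hU : ∀ {q : ℕ} (i : Fin (q + 1) → S), IsAffineOpen (inter U i) := fun i =>
    IsAffineOpen.iInf fun a => (i a).1.2
  have hUtop : iSup U = ⊤ := by
    apply TopologicalSpace.Opens.ext
    rw [TopologicalSpace.Opens.coe_iSup, TopologicalSpace.Opens.coe_top, hcov]
    ext x
    simp
  obtain ⟨eC⟩ := Compare.nonempty_natIso A U F hU hUtop 0
  have hepi : (CohIII.tensorAFunctor A F ⋙ CohIII.HAb X 0).PreservesEpimorphisms := by
    rw [Groth.Agent.S2447.result A X F hF hfl 0, Proper.surjective_map_iff eC]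
    let k := IsLocalRing.ResidueField A
    let K := ModuleCat.of A k
    let j : ModuleCat.of A A ⟶ K := ModuleCat.ofHom (Algebra.linearMap A k)
    let U' : S → X'.Opens := fun i => g ⁻¹ᵁ U i
    let P' := (Scheme.Modules.pullback g).obj F
    letI : Module A (CM k U' P' 0) := Module.compHom _ (algebraMap A k)
    letI : Module A (CM k U' P' 1) := Module.compHom _ (algebraMap A k)
    haveI : IsScalarTower A k (CM k U' P' 0) := IsScalarTower.of_algebraMap_smul fun _ _ => rfl
    haveI : IsScalarTower A k (CM k U' P' 1) := IsScalarTower.of_algebraMap_smul fun _ _ => rfl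
    let β : ∀ q, _ := fun q => BaseChange.betaM (A := A) (A' := k) (g' := g) F U q
    let L0 := LinearMap.liftBaseChange k (R := A) (M := CM A U F 0) (N := CM k U' P' 0)
      { β 0 with map_smul' := BaseChange.betaM_smul hsq F U 0 }
    let L1 := LinearMap.liftBaseChange k (R := A) (M := CM A U F 1) (N := CM k U' P' 1)
      { β 1 with map_smul' := BaseChange.betaM_smul hsq F U 1 }
    have hL0 : Function.Bijective L0 := BaseChange.bijective_lift_betaM hsq F U hU 0
    have hcomm : ∀ v, dA k U' P' 0 (L0 v) = L1 ((dA A U F 0).lTensor k v) := fun v => by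
      induction v using TensorProduct.induction_on with
      | zero => simp only [map_zero]
      | tmul a c =>
        simp only [L0, L1, LinearMap.liftBaseChange_tmul, LinearMap.lTensor_tmul, map_smul]
        exact congrArg (a • ·) (BaseChange.betaM_dA F U 0 c)
      | add a b ha hb => simp only [map_add, ha, hb]
    intro η
    have hn : (ComplexShape.up ℤ).next ((0 : ℕ) : ℤ) = ((0 + 1 : ℕ) : ℤ) := FlatCx.Above.next_up rfl
    obtain ⟨⟨z, hz⟩, rfl⟩ := FlatCx.Elem.cls_surjective (K := CohIII.tensorObj (C A U F) K) hn η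
    have hz' : (dA A U F 0).rTensor k z = 0 := by
      have h : ((C A U F).d ((0 : ℕ) : ℤ) ((0 + 1 : ℕ) : ℤ)).hom.rTensor k z = 0 := hz
      rwa [C_d] at h
    let v : k ⊗[A] CM A U F 0 := TensorProduct.comm A (CM A U F 0) k z
    have hv0 : (dA A U F 0).lTensor k v = 0 := by
      have : ∀ z : CM A U F 0 ⊗[A] k, (dA A U F 0).lTensor k (TensorProduct.comm A _ k z) =
          TensorProduct.comm A _ k ((dA A U F 0).rTensor k z) := fun z => by
        induction z using TensorProduct.induction_on with
        | zero => simp only [map_zero]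
        | tmul a c => rfl
        | add a b ha hb => simp only [map_add, ha, hb]
      rw [this, hz', map_zero]
    have hU'top : iSup U' = ⊤ := by
      show ⨆ i, g ⁻¹ᵁ U i = ⊤
      rw [← Scheme.Hom.preimage_iSup, hUtop, Scheme.Hom.preimage_top]
    obtain ⟨t, ht⟩ := SectionLift.exists_eq_restrictions (A := k) U' P' hU'top (L0 v)
      (by rw [hcomm, hv0, map_zero])
    obtain ⟨m, hm⟩ := exists_pbRes g hs t
    let c : CM A U F 0 := SectionLift.restrictions U F m
    have hβ : β 0 c = SectionLift.restrictions U' P' t := by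
      funext i
      rw [← hm]
      exact (congrArg (fun y : Γ(P', inter U' i) => toSec (X' ↘ Spec (CommRingCat.of k)) y)
        (BaseChange.pbRes_res (g' := g) F (W₁ := ⊤) (W₂ := inter U i) (W₁' := ⊤) (W₂' := inter U' i)
          le_top le_top le_top (BaseChange.inter_preimage U i).le m)).symm
    have hvc : v = (1 : k) ⊗ₜ[A] c := by
      apply hL0.1
      simp only [L0, LinearMap.liftBaseChange_tmul, one_smul]
      exact ht.symm.trans hβ.symm
    have hzc : z = c ⊗ₜ[A] (1 : k) := by
      have := congrArg (TensorProduct.comm A k (CM A U F 0)) hvc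
      rw [TensorProduct.comm_tmul] at this
      exact ((TensorProduct.comm A (CM A U F 0) k).symm_apply_apply z).symm.trans this
    have hc : ((CohIII.tensorObj (C A U F) (ModuleCat.of A A)).d ((0 : ℕ) : ℤ) ((0 + 1 : ℕ) : ℤ)).hom
        (c ⊗ₜ[A] (1 : A)) = 0 := by
      show ((C A U F).d ((0 : ℕ) : ℤ) ((0 + 1 : ℕ) : ℤ)).hom.rTensor A (c ⊗ₜ[A] (1 : A)) = 0
      rw [C_d]
      show (dA A U F 0 c) ⊗ₜ[A] (1 : A) = 0
      rw [SectionLift.dA_restrictions, TensorProduct.zero_tmul]
    refine ⟨FlatCx.Elem.cls (K := CohIII.tensorObj (C A U F) (ModuleCat.of A A)) hn ⟨_, hc⟩, ?_⟩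
    refine FlatCx.Elem.homologyMap_cls (CohIII.tensorMap (C A U F) j) hn _ _ ?_
    show c ⊗ₜ[A] algebraMap A k 1 = z
    rw [map_one, hzc]
  refine ⟨?_, hepi⟩
  obtain ⟨b, P, -, hfin, hfree, hpos, hiso⟩ := Proper.exists_rep A F hF hfl
  obtain ⟨e⟩ := hiso 0
  haveI : ∀ i, Module.Flat A (P.X i) := fun i => haveI := hfree i; inferInstance
  have h0 : Module.Flat A (FlatCx.Basic.Q P 0) :=
    (FlatCx.Basic.preservesEpi_iff P 1 0 (by omega)).1 ⟨fun {M N} φ _ =>
      (ModuleCat.epi_iff_surjective _).2 fun y => by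
        haveI := ModuleCat.subsingleton_of_isZero (hpos 1 (by omega) N)
        exact ⟨0, Subsingleton.elim (α := CohIII.T P 1 N) _ _⟩⟩
  rw [Proper.preservesMono_iff e]
  exact (FlatCx.Basic.preservesMono_iff P (-((0 : ℕ) : ℤ)) (-1) (by simp)).2 (by simpa using h0)

end

end Groth.Agent.H34.CohFlat0
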