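import Groth.Agent.H34.CohFlat0.Constants
import Groth.Agent.H2.Rigid.Smooth
import Groth.Agent.H2.Rigid.PushFlat
import Groth.Agent.Lib.Cube.SeesawCons
import Groth.Agent.Lib.Exchange.AcycRes
import Groth.Prelude.Def_CurvBase
import Groth.Prelude.Def_ClSub2

/-!
# Fibrewise conditions for families of curves with constant functions
-/

set_option autoImplicit false
set_option linter.style.haveILetI false
universe u

open CategoryTheory Limits AlgebraicGeometry Opposite TopologicalSpace

namespace Groth.Agent.H34.CohFlat0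

open Groth.Agent.Lib _root_.ZarCoh.Exchange

noncomputable section

/-- `H^0(Z, O)` is the space of global functions. -/
theorem finrank_HH_zero (k : Type u) [Field k] (Z : Scheme.{u}) [Z.Over (Spec (CommRingCat.of k))] :
    letI : Algebra k Γ(Z, ⊤) :=
      ((Z ↘ Spec (CommRingCat.of k)).appTop.hom.comp (Scheme.ΓSpecIso (CommRingCat.of k)).inv.hom).toAlgebra
    Module.finrank k (Coh.HH Z (Coh.structureModule Z) 0) = Module.finrank k Γ(Z, ⊤) := by
  letI : Algebra k Γ(Z, ⊤) :=
    ((Z ↘ Spec (CommRingCat.of k)).appTop.hom.comp (Scheme.ΓSpecIso (CommRingCat.of k)).inv.hom).toAlgebra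
  let pZ := Z ↘ Spec (CommRingCat.of k)
  let E : Γ(Z, ⊤) ≃ₗ[k] (CechRes.Sec.secA pZ (⊤ : Z.Opens)).obj (Coh.structureModule Z) :=
    { toFun := fun m => CechRes.Sec.toSec pZ (show Γ(Coh.structureModule Z, ⊤) from m)
      invFun := fun m => (CechRes.Sec.ofSec pZ m : Γ(Z, ⊤))
      left_inv := fun _ => rfl
      right_inv := fun _ => rfl
      map_add' := fun _ _ => rfl
      map_smul' := fun a m => by
        show _ = CechRes.Sec.toSec pZ (CechRes.Sec.rho pZ ⊤ a • (show Γ(Coh.structureModule Z, ⊤) from m))
        rw [AcycRes.rho_top k a]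
        rfl }
  exact (((AcycRes.zeroIso k).app (Coh.structureModule Z)).toLinearEquiv ≪≫ₗ E.symm).finrank_eq

variable {X S : Scheme.{u}} (f : X ⟶ S)

/-- One-dimensional `H^0` of the fibres gives constant functions and surjectivity. -/
theorem h0_of_finrank
    (h : ∀ s : S, letI : (f.fiber s).Over (Spec (CommRingCat.of (S.residueField s))) := ⟨f.fiberToSpecResidueField s⟩
      Module.finrank (S.residueField s) (Coh.HH (f.fiber s) (Coh.structureModule (f.fiber s)) 0) = 1) :
    H2.Rigid.H0 f ∧ Surjective f := by
  refine Cube.SeesawCons.h0_surjective_of_finrank f fun s => ?_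
  letI : (f.fiber s).Over (Spec (CommRingCat.of (S.residueField s))) := ⟨f.fiberToSpecResidueField s⟩
  exact (finrank_HH_zero (S.residueField s) (f.fiber s)).symm.trans (h s)

/-- The fibre rank of `O` is the dimension of the cohomology of the fibre. -/
theorem fiberRank_structure (s : S) (p : ℕ) :
    CohIII.fiberRank f (Coh.structureModule X) p s =
      (letI : (f.fiber s).Over (Spec (CommRingCat.of (S.residueField s))) := ⟨f.fiberToSpecResidueField s⟩
      Module.finrank (S.residueField s) (Coh.HH (f.fiber s) (Coh.structureModule (f.fiber s)) p)) := by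
  letI : (f.fiber s).Over (Spec (CommRingCat.of (S.residueField s))) := ⟨f.fiberToSpecResidueField s⟩
  exact (Curves.LES.isoK (S.residueField s) (PicLoc.pullbackStructureIso (f.fiberι s)) p).finrank_eq

/-- The map `O → f_* O` is an isomorphism if it is bijective on all opens. -/
theorem isIso_unitToPush (h : H2.Rigid.Push f) : IsIso (ClSub.unitToPush f) := by
  rw [Scheme.Modules.Hom.isIso_iff_isIso_app]
  intro U
  rw [ConcreteCategory.isIso_iff_bijective]
  exact h U

/-- `R^1 f_* O` is locally free of rank `g` for curves with constant functions of genus `g`. -/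
theorem rank_R1 [IsProper f] [Flat f] [LocallyOfFinitePresentation f]
    [HasInjectiveResolutions X.Modules] (hdim : ∀ s : S, topologicalKrullDim ↥(f.fiber s) ≤ 1)
    (hc : H2.Rigid.H0 f) (g : ℕ)
    (hg : ∀ s : S, letI : (f.fiber s).Over (Spec (S.residueField s)) := ⟨f.fiberToSpecResidueField s⟩
      Curv2.genus (S.residueField s) (f.fiber s) = g) :
    FlatMod.IsFinLocFreeOfRank g ((Coh.Rpush f 1).obj (Coh.structureModule X)) := fun y => by
  obtain ⟨W, hW, h⟩ := exists_free_nhd_R1 f hdim hc y
  rw [fiberRank_structure f y 1] at h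
  exact ⟨W, hW, hg y ▸ h⟩

end

end Groth.Agent.H34.CohFlat0
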