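import Groth.Agent.Lib.Exchange.SectionLift
import Groth.Agent.Lib.Exchange.AcycRes
import Groth.Agent.Lib.Exchange.NearFibre
import Groth.Agent.Lib.Cyc.PB.Sect
import Groth.Agent.Lib.Snapper.Twist
import Groth.Agent.H34.CohFlat0.Exact
import Groth.Agent.Lib.ExchangeFP29.Rep
import Groth.Agent.Lib.FlatCx.Local

/-!
# Cohomological flatness in degree zero over an arbitrary local base
-/

set_option autoImplicit false
set_option linter.style.haveILetI false
universe u

open CategoryTheory Limits AlgebraicGeometry Opposite TopologicalSpace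
open scoped TensorProduct

namespace Groth.Agent.H34.CohFlat0

open Groth.Agent.Lib ZarCoh.Exchange ZarCoh.Exchange.Complex ZarCoh.FlatBC
open Groth.Agent.Lib.CechRes.Sec (rho secA toSec ofSec)
open Groth.Agent.Lib.Cech.Complex (inter)
open Groth.Agent.Lib.TensorMod

noncomputable section

variable {A : Type u} [CommRing A] [IsLocalRing A] {X X' : Scheme.{u}}
  [X.Over (Spec (CommRingCat.of A))] [IsProper (X ↘ Spec (CommRingCat.of A))]
  [Flat (X ↘ Spec (CommRingCat.of A))] [LocallyOfFinitePresentation (X ↘ Spec (CommRingCat.of A))]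
  [X'.Over (Spec (CommRingCat.of (IsLocalRing.ResidueField A)))] {g : X' ⟶ X}

variable (hsq : IsPullback g (X' ↘ Spec (CommRingCat.of (IsLocalRing.ResidueField A))) (X ↘ Spec (CommRingCat.of A))
    (Spec.map (CommRingCat.ofHom (algebraMap A (IsLocalRing.ResidueField A)))))
  (hs : Function.Surjective g.appTop.hom)

local notation "pX" => (X ↘ Spec (CommRingCat.of A))

include hsq hs in
/-- Over any local ring, functions lifting from the closed fibre make the cokernel in degree zero flat. -/
theorem flat_Q_of_surjective {P : ChainComplex (ModuleCat.{u} A) ℤ}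
    (hP : ExchangeFP29.Algebra.IsGood P)
    (e : CohIII.TFun P (-((0 : ℕ) : ℤ)) ⋙ forget₂ (ModuleCat.{u} A) AddCommGrpCat.{u} ≅
      CohIII.tensorAFunctor A (Coh.structureModule X) ⋙ CohIII.HAb X 0) :
    Module.Flat A (FlatCx.Basic.Q P (-1)) := by
  let F : X.Modules := Coh.structureModule X
  haveI : F.IsQuasicoherent := TensorMod.QCohInv.isQCoh_structureModule X
  have hfl : FlatMod.IsFlatOver pX F :=
    ZarCoh.Exchange.NearFibre.isFlatOver_of_isFinLocFree pX (isFinLocFree_structure X)
  haveI : X.IsSeparated := ⟨by rw [← terminal.comp_from pX]; infer_instance⟩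
  haveI : CompactSpace X := (quasiCompact_iff_compactSpace pX).mp inferInstance
  obtain ⟨S, hS, hcov⟩ :=
    isCompact_and_isOpen_iff_finite_and_eq_biUnion_affineOpens.mp
      ⟨(isCompact_univ : IsCompact (Set.univ : Set X)), isOpen_univ⟩
  haveI := hS.to_subtype
  let U : S → X.Opens := fun i => i.1.1
  have hU : ∀ {q : ℕ} (i : Fin (q + 1) → S), IsAffineOpen (inter U i) := fun i =>
    IsAffineOpen.iInf fun a => (i a).1.2
  have hUtop : iSup U = ⊤ := by
    apply TopologicalSpace.Opens.ext
    rw [TopologicalSpace.Opens.coe_iSup, TopologicalSpace.Opens.coe_top, hcov]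
    ext x
    simp
  obtain ⟨eC⟩ := Compare.nonempty_natIso A U F hU hUtop 0
  have hsurj : Function.Surjective ((CohIII.TFun P (-((0 : ℕ) : ℤ))).map
      (ModuleCat.ofHom (Algebra.linearMap A (IsLocalRing.ResidueField A)))).hom := by
    rw [← Proper.surjective_map_iff e, Proper.surjective_map_iff eC]
    let k := IsLocalRing.ResidueField A
    let K := ModuleCat.of A k
    let j : ModuleCat.of A A ⟶ K := ModuleCat.ofHom (Algebra.linearMap A k)
    let U' : S → X'.Opens := fun i => g ⁻¹ᵁ U i
    let P' := (Scheme.Modules.pullback g).obj F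
    letI : Module A (CM k U' P' 0) := Module.compHom _ (algebraMap A k)
    letI : Module A (CM k U' P' 1) := Module.compHom _ (algebraMap A k)
    haveI : IsScalarTower A k (CM k U' P' 0) := IsScalarTower.of_algebraMap_smul fun _ _ => rfl
    haveI : IsScalarTower A k (CM k U' P' 1) := IsScalarTower.of_algebraMap_smul fun _ _ => rfl
    let β : ∀ q, _ := fun q => BaseChange.betaM (A := A) (A' := k) (g' := g) F U q
    let L0 := LinearMap.liftBaseChange k (R := A) (M := CM A U F 0) (N := CM k U' P' 0)
      { β 0 with map_smul' := BaseChange.betaM_smul hsq F U 0 }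
    let L1 := LinearMap.liftBaseChange k (R := A) (M := CM A U F 1) (N := CM k U' P' 1)
      { β 1 with map_smul' := BaseChange.betaM_smul hsq F U 1 }
    have hL0 : Function.Bijective L0 := BaseChange.bijective_lift_betaM hsq F U hU 0
    have hcomm : ∀ v, dA k U' P' 0 (L0 v) = L1 ((dA A U F 0).lTensor k v) := fun v => by
      induction v using TensorProduct.induction_on with
      | zero => simp only [map_zero]
      | tmul a c =>
        simp only [L0, L1, LinearMap.liftBaseChange_tmul, LinearMap.lTensor_tmul, map_smul]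
        exact congrArg (a • ·) (BaseChange.betaM_dA F U 0 c)
      | add a b ha hb => simp only [map_add, ha, hb]
    intro η
    have hn : (ComplexShape.up ℤ).next ((0 : ℕ) : ℤ) = ((0 + 1 : ℕ) : ℤ) := FlatCx.Above.next_up rfl
    obtain ⟨⟨z, hz⟩, rfl⟩ := FlatCx.Elem.cls_surjective (K := CohIII.tensorObj (C A U F) K) hn η
    have hz' : (dA A U F 0).rTensor k z = 0 := by
      have h : ((C A U F).d ((0 : ℕ) : ℤ) ((0 + 1 : ℕ) : ℤ)).hom.rTensor k z = 0 := hz
      rwa [C_d] at h
    let v : k ⊗[A] CM A U F 0 := TensorProduct.comm A (CM A U F 0) k z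
    have hv0 : (dA A U F 0).lTensor k v = 0 := by
      have : ∀ z : CM A U F 0 ⊗[A] k, (dA A U F 0).lTensor k (TensorProduct.comm A _ k z) =
          TensorProduct.comm A _ k ((dA A U F 0).rTensor k z) := fun z => by
        induction z using TensorProduct.induction_on with
        | zero => simp only [map_zero]
        | tmul a c => rfl
        | add a b ha hb => simp only [map_add, ha, hb]
      rw [this, hz', map_zero]
    have hU'top : iSup U' = ⊤ := by
      show ⨆ i, g ⁻¹ᵁ U i = ⊤
      rw [← Scheme.Hom.preimage_iSup, hUtop, Scheme.Hom.preimage_top]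
    obtain ⟨t, ht⟩ := SectionLift.exists_eq_restrictions (A := k) U' P' hU'top (L0 v)
      (by rw [hcomm, hv0, map_zero])
    obtain ⟨m, hm⟩ := exists_pbRes g hs t
    let c : CM A U F 0 := SectionLift.restrictions U F m
    have hβ : β 0 c = SectionLift.restrictions U' P' t := by
      funext i
      rw [← hm]
      exact (congrArg (fun y : Γ(P', inter U' i) => toSec (X' ↘ Spec (CommRingCat.of k)) y)
        (BaseChange.pbRes_res (g' := g) F (W₁ := ⊤) (W₂ := inter U i) (W₁' := ⊤) (W₂' := inter U' i)
          le_top le_top le_top (BaseChange.inter_preimage U i).le m)).symm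
    have hvc : v = (1 : k) ⊗ₜ[A] c := by
      apply hL0.1
      simp only [L0, LinearMap.liftBaseChange_tmul, one_smul]
      exact ht.symm.trans hβ.symm
    have hzc : z = c ⊗ₜ[A] (1 : k) := by
      have := congrArg (TensorProduct.comm A k (CM A U F 0)) hvc
      rw [TensorProduct.comm_tmul] at this
      exact ((TensorProduct.comm A (CM A U F 0) k).symm_apply_apply z).symm.trans this
    have hc : ((CohIII.tensorObj (C A U F) (ModuleCat.of A A)).d ((0 : ℕ) : ℤ) ((0 + 1 : ℕ) : ℤ)).hom
        (c ⊗ₜ[A] (1 : A)) = 0 := by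
      show ((C A U F).d ((0 : ℕ) : ℤ) ((0 + 1 : ℕ) : ℤ)).hom.rTensor A (c ⊗ₜ[A] (1 : A)) = 0
      rw [C_d]
      show (dA A U F 0 c) ⊗ₜ[A] (1 : A) = 0
      rw [SectionLift.dA_restrictions, TensorProduct.zero_tmul]
    refine ⟨FlatCx.Elem.cls (K := CohIII.tensorObj (C A U F) (ModuleCat.of A A)) hn ⟨_, hc⟩, ?_⟩
    refine FlatCx.Elem.homologyMap_cls (CohIII.tensorMap (C A U F) j) hn _ _ ?_
    show c ⊗ₜ[A] algebraMap A k 1 = z
    rw [map_one, hzc]
  haveI : ∀ i, Module.Flat A (P.X i) := hP.flat
  haveI := hP.finitePresentation_Q (-1)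
  haveI := FlatCx.Local.free_of_injective (FlatCx.Basic.Q P (-1))
    ((FlatCx.Local.surjective_residue_iff P (-((0 : ℕ) : ℤ)) (-1) (by simp)).1 hsurj)
  infer_instance

end

end Groth.Agent.H34.CohFlat0
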